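import Mathlib
import Cfsg.Agent.Lib.M24E.Enc

/-!
# A stabiliser chain of `M24` and a kernel backtrack search over `M24`

Every element of `M24` is `u₀ u₁ u₂ u₃ u₄ h` with `u_k` from a transversal table and `h` one of the 48 elements fixing the
points `0, …, 4`.  `asearch` (all elements with a property pass a test) and `csearch` (counting) run through this tree
with pruning.
-/

set_option autoImplicit false

namespace CfsgLib.M24E

open Cfsg CfsgLib.Golay
open scoped Pointwise

/-! ### rigidity -/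

/-- certificate that fixing `F` pointwise forces fixing `F'` pointwise -/
noncomputable def rig (F : ℕ) (L : List ℕ) (F' : ℕ) : Bool :=
  and (allL L fun o => and (isCode o) (and (Nat.beq (pc o) 8) (Nat.ble 5 (pc (Nat.land o F)))))
    (allLT 24 fun x => or (not (tb F' x)) (or (tb F x) (allLT 24 fun y =>
      or (Nat.beq y x) (or (tb F y) (anyL L fun o => not (tb o x == tb o y))))))

theorem smul_octad_eq {g : P24} (hg : g ∈ M24) {o s : Finset GolayPt} (ho : o ∈ octads)
    (h5 : 5 ≤ (o ∩ s).card) (hs : ∀ p ∈ s, g p = p) : g • o = o := by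
  refine octad_eq_of_five_le (smul_mem_octads hg ho) ho (h5.trans (Finset.card_le_card ?_))
  intro p hp
  rw [Finset.mem_inter] at hp ⊢
  refine ⟨?_, hp.1⟩
  rw [← hs p hp.2]; exact (smul_mem_smul' g).2 hp.1

theorem fix_of_rig {F F' : ℕ} {L : List ℕ} (h : rig F L F' = true) {g : P24} (hg : g ∈ M24)
    (hF : ∀ p ∈ ofMask F, g p = p) : ∀ p ∈ ofMask F', g p = p := by
  rw [rig, Bool.and_eq_true, allL_iff, allLT_iff] at h
  intro p hp
  have h1 := h.2 _ (ix_lt p)
  rw [mem_ofMask, ← tb_eq] at hp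
  simp only [hp, Bool.not_true, Bool.false_or, Bool.or_eq_true] at h1
  rcases h1 with h1 | h1
  · exact hF p (by rw [mem_ofMask, ← tb_eq]; exact h1)
  · have h2 := of_allLT h1 (ix_lt (g p))
    simp only [Bool.or_eq_true, anyL_iff] at h2
    rcases h2 with h2 | h2 | ⟨o, ho, h2⟩
    · exact ix_inj.1 (Nat.eq_of_beq_eq_true h2)
    · have := hF (g p) (by rw [mem_ofMask, ← tb_eq]; exact h2)
      exact g.injective this
    · exfalso
      have h3 := h.1 o ho
      simp only [Bool.and_eq_true] at h3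
      have hlt := lt_of_isCode h3.1
      have h4 : ofMask o ∈ octads := (ofMask_mem_octads hlt).2 ⟨h3.1, Nat.eq_of_beq_eq_true h3.2.1⟩
      have h5 := smul_octad_eq hg h4 (s := ofMask F)
        (by rw [card_inter_ofMask hlt]; exact Nat.le_of_ble_eq_true h3.2.2) hF
      have h6 : g p ∈ ofMask o ↔ p ∈ ofMask o := by
        conv_lhs => rw [← h5]
        exact smul_mem_smul' g
      rw [mem_ofMask, mem_ofMask, ← tb_eq, ← tb_eq] at h6
      cases h7 : tb o (ix p) <;> cases h8 : tb o (ix (g p)) <;> simp_all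

/-- the points `0,1,2,3,4,5,7` form a base of `M24`. -/
theorem eq_one_of_fix_base {g : P24} (hg : g ∈ M24) (h : ∀ p ∈ ofMask 191, g p = p) : g = 1 := by
  have h1 : rig 191 [1116327, 1327290, 2130606, 2162811, 4726955, 5275709, 8421811, 8536111, 8978620]
      16772095 = true := by decide +kernel
  have h2 : rig 16772095 [16262146] 16777215 = true := by decide +kernel
  have h3 := fix_of_rig h2 hg (fix_of_rig h1 hg h)
  ext p
  rw [h3 p (by rw [ofMask_full]; exact Finset.mem_univ _)]; rfl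

/-! ### the tables -/

/-- transversal tables -/
def utTbl : ℕ := 0x7d0ecb126932151a95ab74a17188208b20893ef46966b224f5329d6188208bcea4b2eb314949ca166a1d5188204aa682c2d7899f5634ee91174188209154c31da95d08f722f6846b3188207b92b51a67222cd2d62ca5e12188209d9b55490c3be854dcc472e1118820919d7396aa636334a1647da9018820694e44aa46b5593742eb4468f188203214c91d746a497995f58c2ce1882041dd7316695c23554996a11ed1882042dc5a4612abee74aacd21a6c1882064a708bd5771d066a6a5b508b188204de13aa0d492de7890ad63aca18820a5e686424a235eb299c7b46a918820bc92655a2c3b9706cea47d0a8188209d5362ad178bcca6b28e24a07188207514c99e2881496926af5b6e618820a42c961aa75496e45de48cda518820bdab49ca307b9ac5a928398a418820000000000000000000000000000000000000000000000000000000000000000000000000000000000000000000000000000000000000000000000000916cd7c189a2c868d46a3b913b882088c8dac28544ef231d2a7ad8eb082085a5488d845a5b341caf329d7a88208d50e4998fbcc909146a3b6cba0820b114e42e907c5a649e43a95979882075177531e68d909a94709b4e490820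4c9d760d13a34ab33d56ac0e488820a1a6f60cae4ad0d95d55b44e4808202ceab545a9a308e19e17b20d278820bbe15232343152b94ce86d86a708208ca6eb2cf0ba14fa946465126688207d6d33d0c41b6374a20a938ab608202c4c96d8ee9d068ac88a63e17588206bce341265aad90bca968a5c650820650b2692b143a6352ee733e164882073d555949261ad11a6176ce87408203488c40ef16d54bb15e9a3a703882064a67b55eb1b6ee81149a44a830820328f4badf173609b11039d592288209c22ba54a8725e7ba9a665a4320820bdab49ca307b9ac5a928398a4188200000000000000000000000000000000000000000000000000000000000000000000000000000000000000000005b8e589050ac9e39b5345598645c20248e5a4ee85c0665398faa4516d8209b29228ce8b5db14ae0a7b8c41542011552bccd0ab8f6634717a48b45020891a3bd970518f41552c7c90e2cc20322caa366f839275c4442dc756482054ae95b282a94ce44c6f3d9b0244206212d74e561bcc5bae2a15487a4020396898aac45caf06cd95199c813c2091cd4622f65d44d826251cd4f238208aa70798e41a295b2d8ebc8454b4207d2a81b53271c8512a26bd9709b02081a246d4ee551f2b213360cb712c2025c4b3ce35815d63250f60e926a8206c10c10eb3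95e8e7aac43c5662a4205b26e8d9423c2efa546d314924a02045e6ca2da4b45ee19a155484549c203cd3650c956484f8c114715b7598201546c8a4ea6ad12999e4bba16a1420b2a97aae468226e6344549e2f190204c0937d05255ae865625734c758c20bdab49ca307b9ac5a928398a4188200000000000000000000000000000000000000000000000000000000000006a2328566173064a092f29eca59ae0a3daeaa4930c4e810d522b0d75c2c009eec4c46f9d1467209659650136a03c8899b6b68a17774141315e3132808da4f82ee14a847a910d28dcc352603c5042ddc95d66f5342c18a9681a40b9ed4a89a353d8b819c9292480ce200a6a65d0a3120ec7c544b4db774a00aca2e1b2e9b4c34140872b566521e0abcaa38d700a51464af1688d6991c00cab7845691b994219053be76129a088aa80c1696cc7771a963948f549806888a3ceb6a3e29442e3305c5649602d2c1612a84c9ebb9dc21c5b0999406ce245deb028c2e159127a8f4619201aeafb31b1740414cae59988a3d10082ae95c641419e2b16632328d754e04d073886ef2098a3aea5441b6938c078aa44598a92e70099c968e87bc4a08326eab6214ae43416e7128cfb5080aae296c261bd9d26088a2be873206059a488c2e19b92f510ec2b6a3a5840bdab49ca307b9ac5a928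398a418820000000000000000000000000000000005883388a1c8f5140b46cd317aed705c2c419c450e47a8a05a36698bd76b01f28250b0c5aca18e2995c4ba875701e46b21392d28504a6b5622b9c74b85f5580ac7424a4d10d89856190f3b81d45588b6be2944cec8143510cd205c906c96628c55505343b1c89bed125c6b2d0e189aaa6b99692053025f00de6988a43410a6a9dd65a80d6428f05e488062238c85a19b5526cc5be6e15c8f59aa3015164d1cc3aa720c60d0dc6e51682b10f544dab32651041ec05c4d49261a8cd43c98a2a230b3dcb881e24a1b624d903caa175166b946a9dc924596778cd588154134ac0ba0995c713d546708b4859330b08b035e8581e66412e1590d292928aa61bd467b8a6c4c0955c5ae904ea7829641466b864b43c745418d880c975a7539045b822a3b8534bd6c858a86d65430c24b00c522dcfa453363641142e7aa903b8416ad2728c1ee6b16a4a0e629062b82d5a4e5183dcd62d4941cc520c41bdab49ca307b9ac5a928398a418820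

/-- the transversal element of level `k` mapping `k` to `x` -/
def ut (k x : ℕ) : ℕ :=
  Nat.land (Nat.shiftRight utTbl (Nat.mul 120 (Nat.add (Nat.mul 24 k) x))) 0xffffffffffffffffffffffffffffff

/-- the 48 elements fixing `0, …, 4` -/
def h48 : List ℕ := [0xbdab49ca307b9ac5a928398a418820, 0x8bcd6925d5a5d674326d540a418820, 0x7520f4cee6b450a69e4b654a418820,
  0x5c613a22d56a5ecba9d2394c418820, 0x4cead751658da4a79d17640c418820, 0xb34b1439309aee79328f554c418820,
  0x85e55352764bda72b1cb5450418820, 0x7d6c971a11bcd6c6aa853c90418820, 0x9a637a39f2ac0aa59ccd6590418820,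
  0x5d5d7994cf45a27a32505352418820, 0xb5de894d6da9a0c8a8b43b92418820, 0x321b52cacebae8a81e7163d2418820,
  0xb42928d4d7725aa41de564d6418820, 0x4caee7c6d3818a76b2a85516418820, 0x33a70abd349590c2aa2d3dd6418820,
  0xa19f3bc2ae8c9075b2c5525a418820, 0xac52685a4f9d16a29ee8639a418820, 0x94dd1b5e89354ac42a0b3bda418820,
  0x8adb2452ef816acb28d33a5c418820, 0x2c9f0322295de6aa9e96635c418820, 0xbc12ba18ad946c79b11553dc418820,
  0x859c5ac50da4eea31d72625e418820, 0x451368ae6e2c0cc92ab73b5e418820, 0x995b45d609b2247bb226539e418820,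
  0x43ab2b35e65ce878b2e95160418820, 0x7acae6de759222a49ed461a0418820, 0x9c8cbbd90573d2ca29b13d60418820,
  0x2cec6aaef26b927831f45222418820, 0xbb5135bdd63160aa1ea964a2418820, 0x71a4d7d4a89de8c4a9703da2418820,
  0x6c22e496b65d2ec7aa663a24418820, 0xa3acb9a5a8854cab9caf6464418820, 0xaad102ce91735e73313755a4418820,
  0x41af1916146bdcab1d3562e6418820, 0x835662a5f78a2ccaaa4e3d26418820, 0x7c68d4c90b342a7730b655e6418820,
  0x6da6f722572d6074b0d152e8418820, 0xabee5339abb4a2c829093ce8418820, 0x9157641ab37b52a89dd065e8418820,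
  0x6dcc97ae9044aca71e33616a418820, 0x926088bda5bd267b316e51aa418820, 0xa20b75c6464b5cc9a9f63c2a418820,
  0x5be54bb53129aaa99e0e622c418820, 0x4950f6c0d2a2e6c72af53c6c418820, 0x3522585d687a5c7ab1b354ac418820,
  0x2a695835d34464c32acf3aee418820, 0x721696da34a94c77b21254ee418820, 0x8d668b40ab4b9ea91da6652e418820]

theorem ut_check : allLT 5 (fun k => allLT 24 fun x => or (Nat.blt x k) (frc (ut k x) fun u =>
    and (isM u) (and (Nat.beq (ap u k) x) (allLT k fun j => Nat.beq (ap u j) j)))) = true := by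
  decide +kernel

theorem ut_spec {k x : ℕ} (hk : k < 5) (h1 : k ≤ x) (hx : x < 24) :
    pm (ut k x) ∈ M24 ∧ Rp (ap (ut k x)) (pm (ut k x)) ∧ pm (ut k x) (pt k) = pt x ∧
      ∀ j < k, pm (ut k x) (pt j) = pt j := by
  have h := of_allLT (of_allLT ut_check hk) hx
  have h2 : Nat.blt x k = false := by
    cases h3 : Nat.blt x k
    · rfl
    · rw [Nat.blt_eq] at h3; omega
  rw [h2, Bool.false_or, frc_eq, Bool.and_eq_true, Bool.and_eq_true, allLT_iff] at h
  have hr := pm_rp h.1
  refine ⟨pm_mem h.1, hr, ?_, fun j hj => ?_⟩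
  · rw [hr.pt_eq (by omega), Nat.eq_of_beq_eq_true h.2.1]
  · rw [hr.pt_eq (by omega), Nat.eq_of_beq_eq_true (h.2.2 j hj)]

theorem h48_check : allL h48 (fun h => and (isM h) (allLT 5 fun j => Nat.beq (ap h j) j)) = true := by
  decide +kernel

theorem h48_spec {h : ℕ} (hh : h ∈ h48) :
    pm h ∈ M24 ∧ Rp (ap h) (pm h) ∧ ∀ j < 5, pm h (pt j) = pt j := by
  have h1 := (allL_iff _ _).1 h48_check h hh
  rw [Bool.and_eq_true, allLT_iff] at h1
  have hr := pm_rp h1.1
  refine ⟨pm_mem h1.1, hr, fun j hj => ?_⟩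
  rw [hr.pt_eq (by omega), Nat.eq_of_beq_eq_true (h1.2 j hj)]

theorem h48_cover : allLT 24 (fun y => allLT 24 fun z => or (not (tb 5248 y)) (or (tb 5279 z)
    (anyL h48 fun h => and (Nat.beq (ap h 7) y) (Nat.beq (ap h 5) z)))) = true := by decide +kernel

theorem h48_nodup : (h48.map fun h => ap h 7 * 32 + ap h 5).Nodup := by decide +kernel

theorem oct0_mem : ofMask 5279 ∈ octads :=
  (ofMask_mem_octads (by norm_num)).2 (by decide +kernel)

theorem exists_h48_of {y z : GolayPt} (hy : y ∈ ofMask 5248) (hz : z ∉ ofMask 5279) :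
    ∃ h ∈ h48, pm h (pt 7) = y ∧ pm h (pt 5) = z := by
  have h1 := of_allLT (of_allLT h48_cover (ix_lt y)) (ix_lt z)
  rw [mem_ofMask, ← tb_eq] at hy hz
  simp only [hy, hz, Bool.not_true, Bool.false_or, anyL_iff, Bool.and_eq_true] at h1
  obtain ⟨h, hh, h2, h3⟩ := h1
  have hr := (h48_spec hh).2.1
  refine ⟨h, hh, ?_, ?_⟩
  · rw [hr.pt_eq (by norm_num), Nat.eq_of_beq_eq_true h2, pt_ix]
  · rw [hr.pt_eq (by norm_num), Nat.eq_of_beq_eq_true h3, pt_ix]

theorem smul_oct0 {g : P24} (hg : g ∈ M24) (h : ∀ j < 5, g (pt j) = pt j) :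
    g • ofMask 5279 = ofMask 5279 := by
  refine smul_octad_eq hg oct0_mem (s := ofMask 31) ?_ ?_
  · rw [card_inter_ofMask (by norm_num)]; decide +kernel
  · intro p hp
    have : ∀ p : GolayPt, p ∈ ofMask 31 → ix p < 5 := by simp only [mem_ofMask]; decide
    rw [← pt_ix p]; exact h _ (this p hp)

theorem exists_h48 {g : P24} (hg : g ∈ M24) (h : ∀ j < 5, g (pt j) = pt j) : ∃ q ∈ h48, pm q = g := by
  have h1 := smul_oct0 hg h
  have h7 : g (pt 7) ∈ ofMask 5248 := by
    have h2 : g (pt 7) ∈ ofMask 5279 := by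
      rw [← h1, smul_mem_smul', mem_ofMask]; decide
    have h3 : ∀ p : GolayPt, p ∈ ofMask 5279 → p ∈ ofMask 5248 ∨ ix p < 5 := by
      simp only [mem_ofMask]; decide
    rcases h3 _ h2 with h4 | h4
    · exact h4
    · have h5 := h _ h4
      rw [pt_ix] at h5
      have h6 := g.injective h5
      rw [h6] at h4
      exact absurd h4 (by decide)
  have h5 : g (pt 5) ∉ ofMask 5279 := by
    rw [← h1, smul_mem_smul', mem_ofMask]; decide
  obtain ⟨q, hq, h2, h3⟩ := exists_h48_of h7 h5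
  obtain ⟨h4, -, h6⟩ := h48_spec hq
  refine ⟨q, hq, ?_⟩
  have h8 : g⁻¹ * pm q = 1 := by
    refine eq_one_of_fix_base (mul_mem (inv_mem hg) h4) fun p hp => ?_
    have h3' : ∀ p : GolayPt, p ∈ ofMask 191 → ix p < 5 ∨ p = pt 5 ∨ p = pt 7 := by
      simp only [mem_ofMask]; decide
    show g⁻¹ (pm q p) = p
    rw [Equiv.Perm.inv_eq_iff_eq]
    rcases h3' p hp with h9 | rfl | rfl
    · have a1 := h6 _ h9
      have a2 := h _ h9
      rw [pt_ix] at a1 a2
      rw [a1, a2]
    · exact h3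
    · exact h2
  exact (inv_mul_eq_one.1 h8).symm

/-! ### the tree -/

/-- elements of `M24` agreeing with `w` on the first `k` points -/
def InS (k : ℕ) (w g : P24) : Prop := g ∈ M24 ∧ ∀ j < k, g (pt j) = w (pt j)

theorem InS.le_ix {k : ℕ} (hk : k < 5) {w g : P24} (h : InS k w g) : k ≤ ix (w⁻¹ (g (pt k))) := by
  by_contra h1
  have h2 := h.2 _ (not_le.1 h1)
  rw [pt_ix, app_inv] at h2
  have h3 := congrArg ix (g.injective h2)
  rw [ix_pt (by omega)] at h3
  omega

theorem inS_succ {k x : ℕ} (hk : k < 5) (h1 : k ≤ x) (hx : x < 24) {w g : P24} :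
    InS (k + 1) (w * pm (ut k x)) g ↔ InS k w g ∧ g (pt k) = w (pt x) := by
  obtain ⟨-, -, h2, h3⟩ := ut_spec hk h1 hx
  constructor
  · rintro ⟨h4, h5⟩
    refine ⟨⟨h4, fun j hj => ?_⟩, ?_⟩
    · rw [h5 j (by omega), Equiv.Perm.mul_apply, h3 j hj]
    · rw [h5 k (by omega), Equiv.Perm.mul_apply, h2]
  · rintro ⟨⟨h4, h5⟩, h6⟩
    refine ⟨h4, fun j hj => ?_⟩
    rcases Nat.lt_succ_iff_lt_or_eq.1 hj with h7 | rfl
    · rw [h5 j h7, Equiv.Perm.mul_apply, h3 j h7]
    · rw [h6, Equiv.Perm.mul_apply, h2]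

theorem inS_five {w g : P24} (hw : w ∈ M24) : InS 5 w g ↔ ∃ q ∈ h48, w * pm q = g := by
  constructor
  · rintro ⟨h1, h2⟩
    obtain ⟨q, hq, h3⟩ := exists_h48 (mul_mem (inv_mem hw) h1) (fun j hj => by
      rw [Equiv.Perm.mul_apply, h2 j hj, inv_app])
    exact ⟨q, hq, by rw [h3, mul_inv_cancel_left]⟩
  · rintro ⟨q, hq, rfl⟩
    obtain ⟨h1, -, h2⟩ := h48_spec hq
    exact ⟨mul_mem hw h1, fun j hj => by rw [Equiv.Perm.mul_apply, h2 j hj]⟩

/-- pruning functions: level, the current partial product, the candidate image -/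
abbrev Prune : Type := ℕ → (ℕ → ℕ) → ℕ → Bool

/-- the pruning function `ok` accepts all elements with the property `P` (base points `c 0, …, c 4`) -/
def Sound (c : ℕ → ℕ) (P : P24 → Prop) (ok : Prune) : Prop :=
  ∀ g ∈ M24, P g → ∀ k < 5, ∀ φ : ℕ → ℕ, (∀ j < k, φ j = ix (g (pt (c j)))) →
    ok k φ (ix (g (pt (c k)))) = true

theorem Sound.ok {P : P24 → Prop} {ok : Prune} (hs : Sound (fun x => x) P ok) {k : ℕ} (hk : k < 5)
    {q : ℕ} {w g : P24} (hq : Rp (ap q) w) (hg : InS k w g) (hP : P g) {x : ℕ} (hx : x < 24)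
    (h : g (pt k) = w (pt x)) : ok k (ap q) (ap q x) = true := by
  have := hs g hg.1 hP k hk (ap q) (fun j hj => by rw [hg.2 j hj, hq.app (by omega)])
  rwa [h, ← hq.app hx] at this

/-- one level of the universal search -/
noncomputable def astep (k : ℕ) (ok : Prune) (next : ℕ → Bool) (w : ℕ) : Bool :=
  allLT (Nat.sub 24 k) fun i => frc (Nat.add k i) fun x =>
    Bool.rec true (frc (ut k x) fun u => frc (cmp w u) next) (ok k (ap w) (ap w x))

/-- last level of the universal search -/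
noncomputable def afin (vi : ℕ) (good : (ℕ → ℕ) → Bool) (w : ℕ) : Bool :=
  allL h48 fun h => good fun x => ap w (ap h (ap vi x))

/-- universal search -/
noncomputable def asearch (vi : ℕ) (ok : Prune) (good : (ℕ → ℕ) → Bool) : Bool :=
  astep 0 ok (astep 1 ok (astep 2 ok (astep 3 ok (astep 4 ok (afin vi good))))) idq

theorem astep_spec {P Q : P24 → Prop} {ok : Prune} (hs : Sound (fun x => x) P ok) {k : ℕ} (hk : k < 5)
    {next : ℕ → Bool}
    (H : ∀ q w, Rp (ap q) w → w ∈ M24 → next q = true → ∀ g, InS (k + 1) w g → P g → Q g)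
    (q : ℕ) (w : P24) (hq : Rp (ap q) w) (hw : w ∈ M24) (h : astep k ok next q = true)
    (g : P24) (hg : InS k w g) (hP : P g) : Q g := by
  have h1 := hg.le_ix hk
  have h2 := ix_lt (w⁻¹ (g (pt k)))
  have h3 : g (pt k) = w (pt (ix (w⁻¹ (g (pt k))))) := by rw [pt_ix, app_inv]
  generalize ix (w⁻¹ (g (pt k))) = x at h1 h2 h3
  have h4 := of_allLT h (k := x - k) (by show x - k < 24 - k; omega)
  have h5 : Nat.add k (x - k) = x := by show k + (x - k) = x; omega
  rw [frc_eq, h5, hs.ok hk hq hg hP h2 h3] at h4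
  simp only [frc_eq] at h4
  obtain ⟨h6, h7, -⟩ := ut_spec hk h1 h2
  exact H _ _ (hq.cmp h7) (mul_mem hw h6) h4 g ((inS_succ hk h1 h2).2 ⟨hg, h3⟩) hP

/-- base change data: `v` is in `M24` and `vi` is its inverse -/
noncomputable def chkB (v vi : ℕ) : Bool := and (isM v) (eqF (fun x => ap vi (ap v x)) fun x => x)

theorem chkB_spec {v vi : ℕ} (h : chkB v vi = true) :
    pm v ∈ M24 ∧ Rp (ap v) (pm v) ∧ Rp (ap vi) (pm v)⁻¹ := by
  rw [chkB, Bool.and_eq_true] at h
  have hr := pm_rp h.1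
  refine ⟨pm_mem h.1, hr, fun p => ?_⟩
  have h1 : ap vi (ap v (ix ((pm v)⁻¹ p))) = ix ((pm v)⁻¹ p) :=
    Nat.eq_of_beq_eq_true (of_allLT h.2 (ix_lt ((pm v)⁻¹ p)))
  rwa [hr, app_inv] at h1

theorem Sound.base {v vi : ℕ} (hB : chkB v vi = true) {P : P24 → Prop} {ok : Prune}
    (hs : Sound (ap v) P ok) : Sound (fun x => x) (fun g => P (g * (pm v)⁻¹)) ok := by
  obtain ⟨h1, h2, -⟩ := chkB_spec hB
  intro g hg hP k hk φ hφ
  have e : ∀ j < 24, (g * (pm v)⁻¹) (pt (ap v j)) = g (pt j) := fun j hj => by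
    rw [Equiv.Perm.mul_apply, ← h2.pt_eq hj, inv_app]
  have := hs _ (mul_mem hg (inv_mem h1)) hP k hk φ (fun j hj => by rw [e j (by omega), hφ j hj])
  rwa [e k (by omega)] at this

/-- Soundness of the universal search. -/
theorem all_of_search {v vi : ℕ} (hB : chkB v vi = true) {P Q : P24 → Prop} {ok : Prune}
    (hs : Sound (ap v) P ok) {good : (ℕ → ℕ) → Bool}
    (hgood : ∀ g ∈ M24, P g → ∀ φ, Rp φ g → good φ = true → Q g)
    (h : asearch vi ok good = true) : ∀ g ∈ M24, P g → Q g := by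
  obtain ⟨h1, -, h3⟩ := chkB_spec hB
  have hs' := hs.base hB
  have H5 : ∀ q w, Rp (ap q) w → w ∈ M24 → afin vi good q = true → ∀ g, InS 5 w g →
      P (g * (pm v)⁻¹) → Q (g * (pm v)⁻¹) := by
    intro q w hq hw h g hg hP
    obtain ⟨r, hr, rfl⟩ := (inS_five hw).1 hg
    obtain ⟨h4, h5, -⟩ := h48_spec hr
    exact hgood _ (mul_mem hg.1 (inv_mem h1)) hP _ ((hq.mul h5).mul h3) ((allL_iff _ _).1 h r hr)
  have H0 := astep_spec hs' (k := 0) (by norm_num) (astep_spec hs' (k := 1) (by norm_num)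
    (astep_spec hs' (k := 2) (by norm_num) (astep_spec hs' (k := 3) (by norm_num)
    (astep_spec hs' (k := 4) (by norm_num) H5)))) idq 1 rp_idq (one_mem _) h
  intro g hg hP
  have := H0 (g * pm v) ⟨mul_mem hg h1, fun j hj => absurd hj (Nat.not_lt_zero j)⟩
    (by simpa using hP)
  simpa using this

/-! ### counting -/

/-- sum over `k < n` -/
noncomputable def sumLT (n : ℕ) (f : ℕ → ℕ) : ℕ := Nat.rec 0 (fun k ih => Nat.add (f k) ih) n

theorem sumLT_eq (n : ℕ) (f : ℕ → ℕ) : sumLT n f = ∑ k ∈ Finset.range n, f k := by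
  induction n with
  | zero => rfl
  | succ n ih => rw [Finset.sum_range_succ, ← ih, add_comm (sumLT n f)]; rfl

/-- number of list members passing a test -/
noncomputable def cntL {α : Type} (l : List α) (f : α → Bool) : ℕ :=
  List.rec 0 (fun a _ ih => Bool.rec ih (Nat.succ ih) (f a)) l

theorem cntL_eq {α : Type} (l : List α) (f : α → Bool) : cntL l f = l.countP f := by
  induction l with
  | nil => rfl
  | cons a l ih =>
    have : cntL (a :: l) f = Bool.rec (cntL l f) (cntL l f + 1) (f a) := rfl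
    rw [this, List.countP_cons, ih]
    cases f a <;> simp

/-- one level of the counting search -/
noncomputable def cstep (k : ℕ) (ok : Prune) (next : ℕ → ℕ) (w : ℕ) : ℕ :=
  sumLT (Nat.sub 24 k) fun i => frc (Nat.add k i) fun x =>
    Bool.rec 0 (frc (ut k x) fun u => frc (cmp w u) next) (ok k (ap w) (ap w x))

/-- last level of the counting search -/
noncomputable def cfin (vi : ℕ) (t : (ℕ → ℕ) → Bool) (w : ℕ) : ℕ :=
  cntL h48 fun h => t fun x => ap w (ap h (ap vi x))

/-- counting search -/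
noncomputable def csearch (vi : ℕ) (ok : Prune) (t : (ℕ → ℕ) → Bool) : ℕ :=
  cstep 0 ok (cstep 1 ok (cstep 2 ok (cstep 3 ok (cstep 4 ok (cfin vi t))))) idq

theorem cstep_spec {P : P24 → Prop} {ok : Prune} (hs : Sound (fun x => x) P ok) {k : ℕ} (hk : k < 5)
    {next : ℕ → ℕ}
    (H : ∀ q w, Rp (ap q) w → w ∈ M24 → next q = {g | InS (k + 1) w g ∧ P g}.ncard)
    (q : ℕ) (w : P24) (hq : Rp (ap q) w) (hw : w ∈ M24) :
    cstep k ok next q = {g | InS k w g ∧ P g}.ncard := by
  classical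
  rw [Set.ncard_eq_toFinset_card', Finset.card_eq_sum_card_fiberwise
    (f := fun g : P24 => ix (w⁻¹ (g (pt k))) - k) (t := Finset.range (24 - k))]
  · rw [cstep, sumLT_eq]
    refine Finset.sum_congr rfl fun i hi => ?_
    have hi' : i < 24 - k := Finset.mem_range.1 hi
    have h2 : k + i < 24 := by omega
    have e : Nat.add k i = k + i := rfl
    have key : ∀ g : P24, InS k w g → (ix (w⁻¹ (g (pt k))) - k = i ↔ g (pt k) = w (pt (k + i))) := by
      intro g hg
      have h1 := hg.le_ix hk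
      constructor
      · intro h3
        have : k + i = ix (w⁻¹ (g (pt k))) := by omega
        rw [this, pt_ix, app_inv]
      · intro h3
        rw [h3, inv_app, ix_pt h2]; omega
    rw [frc_eq, e]
    cases hok : ok k (ap q) (ap q (k + i))
    · symm
      rw [Finset.card_eq_zero, Finset.eq_empty_iff_forall_notMem]
      intro g hg
      simp only [Finset.mem_filter, Set.mem_toFinset, Set.mem_ofPred_eq] at hg
      have := hs.ok hk hq hg.1.1 hg.1.2 h2 ((key g hg.1.1).1 hg.2)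
      rw [hok] at this; cases this
    · simp only [frc_eq]
      obtain ⟨h6, h7, -⟩ := ut_spec hk (Nat.le_add_right k i) h2
      rw [H _ _ (hq.cmp h7) (mul_mem hw h6), Set.ncard_eq_toFinset_card']
      congr 1
      ext g
      simp only [Finset.mem_filter, Set.mem_toFinset, Set.mem_ofPred_eq,
        inS_succ hk (Nat.le_add_right k i) h2]
      constructor
      · rintro ⟨⟨h1, h3⟩, h4⟩; exact ⟨⟨h1, h4⟩, (key g h1).2 h3⟩
      · rintro ⟨⟨h1, h4⟩, h3⟩; exact ⟨⟨h1, (key g h1).1 h3⟩, h4⟩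
  · intro g hg
    have := ix_lt (w⁻¹ (g (pt k)))
    simp only [Finset.coe_range, Set.mem_Iio]
    omega

theorem pm_h48_inj {a b : ℕ} (ha : a ∈ h48) (hb : b ∈ h48) (h : pm a = pm b) : a = b := by
  refine List.inj_on_of_nodup_map h48_nodup ha hb ?_
  have h1 := (h48_spec ha).2.1
  have h2 := (h48_spec hb).2.1
  show ap a 7 * 32 + ap a 5 = ap b 7 * 32 + ap b 5
  rw [h1.app (by norm_num), h1.app (by norm_num), h2.app (by norm_num), h2.app (by norm_num), h]

/-- Correctness of the counting search. -/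
theorem ncard_of_search {v vi : ℕ} (hB : chkB v vi = true) {P : P24 → Prop} {ok : Prune}
    (hs : Sound (ap v) P ok) {t : (ℕ → ℕ) → Bool}
    (ht : ∀ g ∈ M24, ∀ φ, Rp φ g → (t φ = true ↔ P g)) :
    {g | g ∈ M24 ∧ P g}.ncard = csearch vi ok t := by
  classical
  obtain ⟨h1, -, h3⟩ := chkB_spec hB
  have hs' := hs.base hB
  have H5 : ∀ q w, Rp (ap q) w → w ∈ M24 →
      cfin vi t q = {g | InS 5 w g ∧ P (g * (pm v)⁻¹)}.ncard := by
    intro q w hq hw
    have hnd : h48.Nodup := List.Nodup.of_map _ h48_nodup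
    rw [cfin, cntL_eq, List.countP_eq_length_filter,
      ← List.toFinset_card_of_nodup (hnd.filter _), ← Set.ncard_coe_finset]
    refine Set.ncard_congr (fun r _ => w * pm r) ?_ ?_ ?_
    · intro r hr
      simp only [List.coe_toFinset, List.mem_filter, Set.mem_ofPred_eq] at hr
      obtain ⟨h4, h5, -⟩ := h48_spec hr.1
      exact ⟨(inS_five hw).2 ⟨r, hr.1, rfl⟩,
        (ht _ (mul_mem (mul_mem hw h4) (inv_mem h1)) _ ((hq.mul h5).mul h3)).1 hr.2⟩
    · intro a b ha hb h
      simp only [List.coe_toFinset, List.mem_filter, Set.mem_ofPred_eq] at ha hb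
      exact pm_h48_inj ha.1 hb.1 (mul_left_cancel h)
    · rintro g ⟨hg, hP⟩
      obtain ⟨r, hr, rfl⟩ := (inS_five hw).1 hg
      obtain ⟨h4, h5, -⟩ := h48_spec hr
      refine ⟨r, ?_, rfl⟩
      simp only [List.coe_toFinset, List.mem_filter, Set.mem_ofPred_eq]
      exact ⟨hr, (ht _ (mul_mem (mul_mem hw h4) (inv_mem h1)) _ ((hq.mul h5).mul h3)).2 hP⟩
  have H0 := cstep_spec hs' (k := 0) (by norm_num) (cstep_spec hs' (k := 1) (by norm_num)
    (cstep_spec hs' (k := 2) (by norm_num) (cstep_spec hs' (k := 3) (by norm_num)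
    (cstep_spec hs' (k := 4) (by norm_num) H5)))) idq 1 rp_idq (one_mem _)
  rw [csearch, H0]
  refine Set.ncard_congr (fun g _ => g * pm v) ?_ ?_ ?_
  · rintro g ⟨hg, hP⟩
    exact ⟨⟨mul_mem hg h1, fun j hj => absurd hj (Nat.not_lt_zero j)⟩, by simpa using hP⟩
  · intro a b _ _ h; exact mul_right_cancel h
  · rintro g ⟨hg, hP⟩
    exact ⟨g * (pm v)⁻¹, ⟨mul_mem hg.1 (inv_mem h1), hP⟩, by simp⟩

theorem card_of_search {v vi : ℕ} (hB : chkB v vi = true) {P : P24 → Prop} {ok : Prune}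
    (hs : Sound (ap v) P ok) {t : (ℕ → ℕ) → Bool}
    (ht : ∀ g ∈ M24, ∀ φ, Rp φ g → (t φ = true ↔ P g)) :
    Nat.card {g : P24 // g ∈ M24 ∧ P g} = csearch vi ok t := by
  rw [← ncard_of_search hB hs ht, ← Nat.card_coe_set_eq]; rfl

/-! ### transitivity -/

theorem exists_map_lt (e : ℕ → GolayPt) (k : ℕ) (hk : k ≤ 5)
    (he : ∀ i < k, ∀ j < k, e i = e j → i = j) : ∃ g ∈ M24, ∀ i < k, g (pt i) = e i := by
  induction k with
  | zero => exact ⟨1, one_mem _, fun i hi => absurd hi (Nat.not_lt_zero i)⟩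
  | succ k ih =>
    obtain ⟨w, hw, h1⟩ := ih (by omega) fun i hi j hj => he i (by omega) j (by omega)
    have h2 : k ≤ ix (w⁻¹ (e k)) := by
      by_contra h3
      have h4 := h1 _ (not_le.1 h3)
      rw [pt_ix, app_inv] at h4
      have := he _ (by omega) _ (by omega) h4
      omega
    obtain ⟨h3, -, h4, h5⟩ := ut_spec (k := k) (by omega) h2 (ix_lt _)
    refine ⟨w * pm (ut k (ix (w⁻¹ (e k)))), mul_mem hw h3, fun i hi => ?_⟩
    rcases Nat.lt_succ_iff_lt_or_eq.1 hi with h7 | rfl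
    · rw [Equiv.Perm.mul_apply, h5 i h7, h1 i h7]
    · rw [Equiv.Perm.mul_apply, h4, pt_ix, app_inv]

theorem exists_map_list (l : List GolayPt) (hl : l.Nodup) (h5 : l.length ≤ 5) :
    ∃ g ∈ M24, ((List.range l.length).map pt).map g = l := by
  obtain ⟨g, hg, h⟩ := exists_map_lt (fun i => l.getD i none) l.length h5 (fun i hi j hj h => by
    simp only [List.getD_eq_getElem _ _ hi, List.getD_eq_getElem _ _ hj] at h
    exact (List.Nodup.getElem_inj_iff hl).1 h)
  refine ⟨g, hg, List.ext_getElem (by simp) fun i h1 h2 => ?_⟩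
  simp only [List.getElem_map, List.getElem_range]
  rw [h i h2, List.getD_eq_getElem _ _ h2]

/-- `M24` is 5-transitive (list form). -/
theorem list_trans (l l' : List GolayPt) (hl : l.Nodup) (hl' : l'.Nodup) (h5 : l.length ≤ 5)
    (hlen : l.length = l'.length) : ∃ g ∈ M24, l.map g = l' := by
  obtain ⟨g, hg, h⟩ := exists_map_list l hl h5
  obtain ⟨g', hg', h'⟩ := exists_map_list l' hl' (hlen ▸ h5)
  refine ⟨g' * g⁻¹, mul_mem hg' (inv_mem hg), ?_⟩
  rw [← h', ← hlen]
  conv_lhs => rw [← h]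
  simp [List.map_map, Function.comp_def]

/-- six points: after mapping five of them to `0, …, 4` the sixth can be moved to `7` or to `5`. -/
theorem exists_map_six (e : ℕ → GolayPt) (he : ∀ i < 6, ∀ j < 6, e i = e j → i = j) :
    ∃ g ∈ M24, (∀ i < 5, g (pt i) = e i) ∧ (g (pt 7) = e 5 ∨ g (pt 5) = e 5) := by
  obtain ⟨w, hw, h1⟩ := exists_map_lt e 5 le_rfl fun i hi j hj => he i (by omega) j (by omega)
  have h2 : ¬ ix (w⁻¹ (e 5)) < 5 := by
    intro h3
    have h4 := h1 _ h3
    rw [pt_ix, app_inv] at h4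
    have := he _ (by omega) _ (by omega) h4
    omega
  by_cases h3 : w⁻¹ (e 5) ∈ ofMask 5279
  · have h4 : ∀ p : GolayPt, p ∈ ofMask 5279 → ¬ ix p < 5 → p ∈ ofMask 5248 := by
      simp only [mem_ofMask]; decide
    obtain ⟨q, hq, h5, -⟩ := exists_h48_of (h4 _ h3 h2) (z := pt 5) (by rw [mem_ofMask]; decide)
    obtain ⟨h6, -, h7⟩ := h48_spec hq
    refine ⟨w * pm q, mul_mem hw h6, fun i hi => ?_, Or.inl ?_⟩
    · rw [Equiv.Perm.mul_apply, h7 i hi, h1 i hi]
    · rw [Equiv.Perm.mul_apply, h5, app_inv]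
  · obtain ⟨q, hq, -, h5⟩ := exists_h48_of (y := pt 7) (by rw [mem_ofMask]; decide) h3
    obtain ⟨h6, -, h7⟩ := h48_spec hq
    refine ⟨w * pm q, mul_mem hw h6, fun i hi => ?_, Or.inr ?_⟩
    · rw [Equiv.Perm.mul_apply, h7 i hi, h1 i hi]
    · rw [Equiv.Perm.mul_apply, h5, app_inv]

end CfsgLib.M24E
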